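import Cfsg.Agent.EqLemmas
import Cfsg.Agent.Lib.AlperinFamily.Basic
import Cfsg.Agent.Lib.Coprime.Action

/-!
# Control of fusion by the Sylow normalizer: setting

* `Ctl S`: `N(S)` controls strong fusion in `S`
* `Fpf p r α`: `α ^ r = 1`, `|G|` prime to `r`, every fixed element has order prime to `p`
* `Inv`, `restrictAut`, `Fpf.restrict`, `Fpf.quot`, `Fpf.exists_invariant_sylow`, `ctl_sub`
-/

set_option autoImplicit false

namespace Cfsg.Agent.FpfControl

open Cfsg.Agent.AlperinFamily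

universe u

variable {G : Type u} [Group G]

/-- `N(S)` controls strong fusion in `S`. -/
def Ctl (S : Subgroup G) : Prop :=
  ∀ (A : Set G) (g : G), A ⊆ S → (∀ a ∈ A, g * a * g⁻¹ ∈ S) →
    ∃ n ∈ Subgroup.normalizer (S : Set G), ∀ a ∈ A, n * a * n⁻¹ = g * a * g⁻¹

theorem Ctl.conj {S : Subgroup G} (h : Ctl S) (c : G) : Ctl (cj c S) := by
  intro A g hA hgA
  obtain ⟨n, hn, he⟩ := h ((fun a => c⁻¹ * a * c) '' A) (c⁻¹ * g * c)
    (by rintro _ ⟨a, ha, rfl⟩; exact mem_cj.1 (hA ha))
    (by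
      rintro _ ⟨a, ha, rfl⟩
      have h1 := mem_cj.1 (hgA a ha)
      convert h1 using 1
      group)
  refine ⟨c * n * c⁻¹, ?_, fun a ha => ?_⟩
  · rw [← cj_normalizer]; exact conj_mem_cj c hn
  · have h1 := congrArg (fun x => c * x * c⁻¹) (he _ ⟨a, ha, rfl⟩)
    convert h1 using 1 <;> group

/-- `H` is invariant under `α`. -/
def Inv (α : MulAut G) (H : Subgroup G) : Prop := ∀ x ∈ H, α x ∈ H

theorem Inv.mem_iff [Finite G] {α : MulAut G} {H : Subgroup G} (h : Inv α H) {x : G} :
    α x ∈ H ↔ x ∈ H := by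
  refine ⟨fun hx => ?_, h x⟩
  obtain ⟨y, hy⟩ := (Finite.surjective_of_injective (f := fun z : H => (⟨α z, h z z.2⟩ : H))
    fun a b e => Subtype.ext (α.injective (congrArg Subtype.val e))) ⟨α x, hx⟩
  exact (α.injective (congrArg Subtype.val hy)) ▸ y.2

theorem Inv.map_eq [Finite G] {α : MulAut G} {H : Subgroup G} (h : Inv α H) :
    H.map α.toMonoidHom = H := by
  ext x
  constructor
  · rintro ⟨y, hy, rfl⟩; exact h y hy
  · intro hx
    exact ⟨α.symm x, h.mem_iff.1 (by rwa [MulEquiv.apply_symm_apply]), MulEquiv.apply_symm_apply _ _⟩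

theorem inv_of_map_eq {α : MulAut G} {H : Subgroup G} (h : H.map α.toMonoidHom = H) : Inv α H :=
  fun x hx => h.le ⟨x, hx, rfl⟩

theorem Inv.normalizer [Finite G] {α : MulAut G} {H : Subgroup G} (h : Inv α H) :
    Inv α (Subgroup.normalizer (H : Set G)) := by
  refine inv_of_map_eq ?_
  rw [Subgroup.map_equiv_normalizer_eq H α]
  exact congrArg (fun K : Subgroup G => Subgroup.normalizer (K : Set G)) h.map_eq

theorem Inv.centralizer [Finite G] {α : MulAut G} {H : Subgroup G} (h : Inv α H) :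
    Inv α (Subgroup.centralizer (H : Set G)) := by
  intro x hx
  rw [Subgroup.mem_centralizer_iff] at hx ⊢
  intro y hy
  obtain ⟨z, hz, rfl⟩ := h.map_eq.ge hy
  exact (map_mul α z x).symm.trans ((congrArg α (hx z hz)).trans (map_mul α x z))

/-- The restriction of `α` to an invariant subgroup. -/
noncomputable def restrictAut [Finite G] (α : MulAut G) {H : Subgroup G} (h : Inv α H) : MulAut ↥H where
  toFun x := ⟨α x, h x x.2⟩
  invFun x := ⟨α.symm x, h.mem_iff.1 (by rw [MulEquiv.apply_symm_apply]; exact x.2)⟩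
  left_inv x := Subtype.ext (α.symm_apply_apply _)
  right_inv x := Subtype.ext (α.apply_symm_apply _)
  map_mul' x y := Subtype.ext (map_mul α (x : G) y)

theorem restrictAut_apply [Finite G] (α : MulAut G) {H : Subgroup G} (h : Inv α H) (x : H) :
    (restrictAut α h x : G) = α x := rfl

theorem restrictAut_pow [Finite G] (α : MulAut G) {H : Subgroup G} (h : Inv α H) (k : ℕ) (x : H) :
    (((restrictAut α h) ^ k) x : G) = (α ^ k) x := by
  induction k with
  | zero => simp
  | succ k ih => rw [pow_succ', pow_succ', MulAut.mul_apply, MulAut.mul_apply, restrictAut_apply, ih]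

/-- The hypotheses. -/
structure Fpf (p r : ℕ) (α : MulAut G) : Prop where
  pow : α ^ r = 1
  cop : (Nat.card G).Coprime r
  fix : ∀ x : G, α x = x → (orderOf x).Coprime p

variable {p r : ℕ} {α : MulAut G}

theorem Fpf.restrict [Finite G] (h : Fpf p r α) {H : Subgroup G} (hH : Inv α H) :
    Fpf p r (restrictAut α hH) := by
  refine ⟨MulEquiv.ext fun x => Subtype.ext ?_, h.cop.coprime_dvd_left H.card_subgroup_dvd_card, fun x hx => ?_⟩
  · rw [restrictAut_pow, h.pow, MulAut.one_apply, MulAut.one_apply]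
  · rw [← Subgroup.orderOf_coe]
    exact h.fix _ (congrArg Subtype.val hx)

theorem Fpf.eq_one_of_fixed [Fact p.Prime] (h : Fpf p r α) {P : Subgroup G} (hP : IsPGroup p P) {x : G}
    (hx : x ∈ P) (hfix : α x = x) : x = 1 := by
  obtain ⟨k, hk⟩ := hP ⟨x, hx⟩
  have hk' : x ^ p ^ k = 1 := congrArg Subtype.val hk
  exact orderOf_eq_one_iff.1 (Nat.eq_one_of_dvd_coprimes ((h.fix x hfix).pow_right k) dvd_rfl
    (orderOf_dvd_of_pow_eq_one hk'))

theorem Fpf.card_zpowers_coprime (h : Fpf p r α) : (Nat.card (Subgroup.zpowers α)).Coprime (Nat.card G) := by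
  rw [Nat.card_zpowers]
  exact h.cop.symm.coprime_dvd_left (orderOf_dvd_of_pow_eq_one h.pow)

theorem Fpf.exists_invariant_sylow [Finite G] [Fact p.Prime] (h : Fpf p r α) :
    ∃ S : Sylow p G, Inv α (S : Subgroup G) := by
  obtain ⟨S, hS⟩ := Coprime.exists_smul_invariant_sylow (A := ↥(Subgroup.zpowers α)) (G := G)
    h.card_zpowers_coprime (Or.inl inferInstance) p
  exact ⟨S, fun x hx => hS ⟨α, Subgroup.mem_zpowers α⟩ x hx⟩

/-- The automorphism of a quotient by an invariant normal subgroup. -/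
noncomputable def quotAut [Finite G] (α : MulAut G) (N : Subgroup G) [N.Normal] (h : Inv α N) :
    MulAut (G ⧸ N) :=
  QuotientGroup.congr N N α h.map_eq

theorem quotAut_pow [Finite G] (α : MulAut G) (N : Subgroup G) [N.Normal] (h : Inv α N) (k : ℕ) (x : G) :
    ((quotAut α N h) ^ k) (x : G ⧸ N) = ((α ^ k) x : G) := by
  induction k with
  | zero => simp
  | succ k ih =>
    rw [pow_succ', pow_succ', MulAut.mul_apply, MulAut.mul_apply, ih]
    rfl

theorem Fpf.quot [Finite G] (h : Fpf p r α) (N : Subgroup G) [N.Normal] (hN : Inv α N) :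
    Fpf p r (quotAut α N hN) := by
  refine ⟨MulEquiv.ext fun x => ?_, ?_, fun x hx => ?_⟩
  · obtain ⟨y, rfl⟩ := QuotientGroup.mk_surjective x
    rw [quotAut_pow, h.pow, MulAut.one_apply, MulAut.one_apply]
  · exact h.cop.coprime_dvd_left (Subgroup.card_quotient_dvd_card N)
  · obtain ⟨y, rfl⟩ := QuotientGroup.mk_surjective x
    have hy : ∀ a : Subgroup.zpowers α, (a • y) * y⁻¹ ∈ N := by
      rintro ⟨a, ha⟩
      obtain ⟨k, rfl⟩ := mem_powers_iff_mem_zpowers.2 ha
      have h1 : ∀ j, ((quotAut α N hN) ^ j) (y : G ⧸ N) = y := fun j => by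
        induction j with
        | zero => rfl
        | succ j ih => rw [pow_succ, MulAut.mul_apply, hx, ih]
      have h2 := (quotAut_pow α N hN k y).symm.trans (h1 k)
      have h3 : y * ((y⁻¹ * (α ^ k) y)) * y⁻¹ ∈ N :=
        (inferInstance : N.Normal).conj_mem _ (QuotientGroup.eq.1 h2.symm) y
      show (α ^ k) y * y⁻¹ ∈ N
      simpa [mul_assoc] using h3
    obtain ⟨c, hc, hcy⟩ := Coprime.exists_smul_fixed_of_coset (A := ↥(Subgroup.zpowers α)) (G := G)
      h.card_zpowers_coprime (Or.inl inferInstance) (N := N)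
      (by
        rintro ⟨a, ha⟩ z hz
        obtain ⟨k, rfl⟩ := mem_powers_iff_mem_zpowers.2 ha
        show (α ^ k) z ∈ N
        clear hy
        induction k with
        | zero => simpa
        | succ k ih => rw [pow_succ', MulAut.mul_apply]; exact hN _ (ih (Subgroup.npow_mem_zpowers α k)))
      (g := y) hy
    have he : (c : G ⧸ N) = y := by
      rw [QuotientGroup.eq]
      have h1 := (inferInstance : N.Normal).conj_mem _ (N.inv_mem hcy) c⁻¹
      simpa [mul_assoc] using h1
    rw [← he]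
    exact (h.fix c (hc ⟨α, Subgroup.mem_zpowers α⟩)).coprime_dvd_left
      (orderOf_map_dvd (QuotientGroup.mk' N) c)

/-- The induction hypothesis. -/
def Below (p r : ℕ) (n : ℕ) : Prop :=
  ∀ (H : Type u) [Group H] [Finite H], Nat.card H < n → ∀ β : MulAut H, Fpf p r β →
    ∀ R : Sylow p H, Ctl (R : Subgroup H)

/-- Control inside a proper invariant subgroup containing `S`. -/
theorem ctl_sub [Finite G] [Fact p.Prime] (hIH : Below.{u} p r (Nat.card G)) (h : Fpf p r α)
    {H : Subgroup G} (hH : Inv α H) (hne : H ≠ ⊤) (S : Sylow p G) (hSH : (S : Subgroup G) ≤ H)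
    {A : Set G} {g : G} (hg : g ∈ H) (hA : A ⊆ (S : Subgroup G))
    (hgA : ∀ a ∈ A, g * a * g⁻¹ ∈ (S : Subgroup G)) :
    ∃ n ∈ Subgroup.normalizer ((S : Subgroup G) : Set G), n ∈ H ∧ ∀ a ∈ A, n * a * n⁻¹ = g * a * g⁻¹ := by
  have hlt : Nat.card H < Nat.card G :=
    lt_of_le_of_ne (Subgroup.card_le_card_group H) fun e => hne (Subgroup.eq_top_of_card_eq H e)
  obtain ⟨n, hn, he⟩ := hIH H hlt _ (h.restrict hH) (S.subtype hSH) (H.subtype ⁻¹' A) ⟨g, hg⟩
    (fun a ha => by rw [Sylow.coe_subtype]; exact hA ha)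
    (fun a ha => by rw [Sylow.coe_subtype]; exact hgA a ha)
  refine ⟨n, ?_, n.2, fun a ha => congrArg Subtype.val (he ⟨a, hSH (hA ha)⟩ ha)⟩
  rw [Sylow.coe_subtype] at hn
  have h1 := Subgroup.le_normalizer_map H.subtype ⟨n, hn, rfl⟩
  rwa [Subgroup.subgroupOf_map_subtype, inf_eq_left.2 hSH] at h1

end Cfsg.Agent.FpfControl
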